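import Groth.Agent.H11Ample.RelCounit
import Groth.Agent.H22Alg.CMField
import Groth.Agent.H11Proj.VeryAmpleOn

/-!
# Quasi-coherent modules are quotients of untwisted pullbacks
-/

set_option autoImplicit false
set_option linter.style.haveILetI false
set_option backward.isDefEq.respectTransparency.types false

noncomputable section

universe u

open CategoryTheory CategoryTheory.Limits AlgebraicGeometry Opposite TopologicalSpace
open Groth.Agent.H11Tilde Groth.Agent.H11Ample

namespace Groth.Agent.H10Coh.Untwist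

variable {X Y : Scheme.{u}} (f : X ⟶ Y) (L F : X.Modules)

/-- Near every point a section of a quasi-coherent module becomes, after twisting, a global section over the
inverse image of an affine open of the base. -/
theorem exists_twist_extends {L : X.Modules} (hA : RelAmple.IsRelAmple f L) (hF : Coh.IsQCoh F) {W : X.Opens}
    (a : Γ(F, W)) {x : X} (hx : x ∈ W) :
    ∃ (V : Y.Opens) (B : X.Opens) (hB : B ≤ W) (hBV : B ≤ f ⁻¹ᵁ V) (e : Γ(L, B)) (N : ℕ), x ∈ B ∧ IsGen L e ∧
      ∀ n, N ≤ n → ∃ (σ : Γ(CohB1.tensorMod F (CohB1.tensorPow L n), f ⁻¹ᵁ V)) (c : Γ(X, B)), IsUnit c ∧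
        (CohB1.tensorMod F (CohB1.tensorPow L n)).presheaf.map (homOfLE hBV).op σ =
          c • tm (F.presheaf.map (homOfLE hB).op a) (spow e n) := by
  obtain ⟨V, hV, hxV⟩ := exists_isAffineOpen_mem (f x)
  let U : X.Opens := f ⁻¹ᵁ V
  have hA' : CohB1.IsAmple (L.restrict U.ι) := (isAmple_restrict_iff L U).2 ((isRelAmple_iff.1 hA).2 V hV)
  haveI := compactSpace_of_isAmple hA'
  haveI := quasiSeparatedSpace_of_isAmple hA'
  have hLU := (isAmple_iff.1 hA').1
  obtain ⟨V₀, e₀, hxV₀, he₀⟩ := exists_gen hLU (⟨x, hxV⟩ : U)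
  obtain ⟨k, s, hk, hxs, hsW, hs⟩ := exists_affine_gen_le hA' (U := V₀ ⊓ U.ι ⁻¹ᵁ W) (x := ⟨x, hxV⟩) ⟨hxV₀, hx⟩
  let G := gen (CohB1.tensorPow (L.restrict U.ι) k) s
  let e : Γ(L.restrict U.ι, G) := (L.restrict U.ι).presheaf.map (homOfLE (hsW.trans inf_le_left)).op e₀
  have he : IsGen (L.restrict U.ι) e := he₀.res _
  have hGW : U.ι ''ᵁ G ≤ W :=
    (Scheme.Hom.image_mono U.ι (hsW.trans inf_le_right)).trans (Scheme.Hom.image_preimage_le _ _)
  let m : Γ(F.restrict U.ι, G) := ofImg U F (F.presheaf.map (homOfLE hGW).op a)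
  have hFU : Coh.IsQCoh (F.restrict U.ι) := by
    haveI : F.IsQuasicoherent := hF
    exact Scheme.Modules.isQuasicoherent_restrictFunctor U.ι F
  obtain ⟨N, hN⟩ := exists_extend_pow hLU hFU hk s he m
  refine ⟨V, U.ι ''ᵁ G, hGW, U.ι_image_le G, toImg U L e, N, ⟨_, hxs, rfl⟩,
    Groth.Agent.H11Proj.isGen_toImg U he, fun n hn => ?_⟩
  obtain ⟨S, c, hc, hS⟩ := hN n hn
  obtain ⟨Φ, hΦ⟩ := exists_hom_twist_restrict U F L n
  let P := CohB1.tensorMod F (CohB1.tensorPow L n)
  refine ⟨P.presheaf.map (homOfLE (le_of_eq U.ι_image_top.symm)).op (toImg U P (Φ.app ⊤ S)),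
    (U.ι.appIso G).inv c, hc.map (U.ι.appIso G).inv.hom, ?_⟩
  rw [mres_mres]
  refine Eq.trans (toImg_res U P (le_top : G ≤ ⊤) (Φ.app ⊤ S)).symm ?_
  rw [← H11Tilde.app_map_apply, hS, tm_smul_left, Scheme.Modules.Hom.app_smul, toImg_smul, hΦ]

variable {L} (B : ℕ → X.Modules) (ψ : ∀ n, CohB1.tensorMod (CohB1.tensorPow L n) (B n) ≅ Coh.structureModule X)

/-- The untwisted counit. -/
def untwist (n : ℕ) :
    CohB1.tensorMod ((Scheme.Modules.pullback f).obj
      ((Scheme.Modules.pushforward f).obj (CohB1.tensorMod F (CohB1.tensorPow L n)))) (B n) ⟶ F :=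
  LimSh.tensorModMap
      ((Scheme.Modules.pullbackPushforwardAdjunction f).counit.app (CohB1.tensorMod F (CohB1.tensorPow L n))) (B n) ≫
    (Tw.assoc F (CohB1.tensorPow L n) (B n)).hom ≫ H22Alg.KosTwist.tensorLeftMap F (ψ n).hom ≫
      (SecTwist.unitorR F).hom

theorem untwist_tm (n : ℕ) {U : X.Opens} (a : Γ(F, U)) (e : Γ(CohB1.tensorPow L n, U)) (b : Γ(B n, U))
    (z : Γ((Scheme.Modules.pullback f).obj
      ((Scheme.Modules.pushforward f).obj (CohB1.tensorMod F (CohB1.tensorPow L n))), U)) (c : Γ(X, U))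
    (hz : ((Scheme.Modules.pullbackPushforwardAdjunction f).counit.app
      (CohB1.tensorMod F (CohB1.tensorPow L n))).app U z = c • tm a e) :
    (untwist f F B ψ n).app U (tm z b) = (c * (show Γ(X, U) from (ψ n).hom.app U (tm e b))) • a := by
  show (SecTwist.unitorR F).hom.app U ((H22Alg.KosTwist.tensorLeftMap F (ψ n).hom).app U
    ((Tw.assoc F (CohB1.tensorPow L n) (B n)).hom.app U ((LimSh.tensorModMap _ (B n)).app U (tm z b)))) = _
  rw [Tw.map_tm, hz, ← tm_smul_left, H22Alg.CMField.assoc_tm, H22Alg.KosTwist.map_tm_right]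
  refine (SecTwist.unitorR_tmul F U (c • a) (show Γ(X, U) from (ψ n).hom.app U (tm e b))).trans ?_
  refine (smul_smul _ c a).trans ?_
  exact congrArg (fun t => t • a) (mul_comm _ _)

theorem isUnit_app_tm {M N : X.Modules} (φ : CohB1.tensorMod M N ≅ Coh.structureModule X) {U : X.Opens}
    {e : Γ(M, U)} {b : Γ(N, U)} (he : IsGen M e) (hb : IsGen N b) :
    IsUnit (show Γ(X, U) from φ.hom.app U (tm e b)) := by
  have h := H11Ample.isGen_map_iso φ (isGen_tm he hb)
  obtain ⟨d, hd⟩ := exists_coeff h (one U)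
  exact IsUnit.of_mul_eq_one_right d hd.symm

/-- Every quasi-coherent module is a quotient of untwisted pullbacks. -/
theorem epi_desc_untwist (hA : RelAmple.IsRelAmple f L) (hB : ∀ n, PicF.IsInvertible (B n)) (hF : Coh.IsQCoh F)
    {ι : Type u} (d : ι → ℕ) (hd : ∀ N, ∃ j, N ≤ d j) :
    Epi (Sigma.desc fun j => untwist f F B ψ (d j)) := by
  refine H11Tilde.epi_of_locally_surjective _ fun W a x hx => ?_
  obtain ⟨V, B', hB', hBV, e, N, hxB, he, hN⟩ := exists_twist_extends f F hA hF a hx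
  obtain ⟨j, hj⟩ := hd N
  obtain ⟨σ, c, hc, hσ⟩ := hN (d j) hj
  obtain ⟨B₁, b, hxB₁, hb⟩ := exists_gen (hB (d j)) x
  let B'' := B' ⊓ B₁
  have h1 : B'' ≤ B' := inf_le_left
  let P := CohB1.tensorMod F (CohB1.tensorPow L (d j))
  let Z := (Scheme.Modules.pullback f).obj ((Scheme.Modules.pushforward f).obj P)
  let z : Γ(Z, B'') := Z.presheaf.map (homOfLE (h1.trans hBV)).op
    (OmegaSh.pullSect f ((Scheme.Modules.pushforward f).obj P) V (pushSec f P V σ))
  have hz : ((Scheme.Modules.pullbackPushforwardAdjunction f).counit.app P).app B'' z =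
      X.presheaf.map (homOfLE h1).op c •
        tm (F.presheaf.map (homOfLE (h1.trans hB')).op a) (spow (L.presheaf.map (homOfLE h1).op e) (d j)) := by
    refine (H11Tilde.app_map_apply _ (h1.trans hBV) _).trans ?_
    refine (congrArg (P.presheaf.map (homOfLE (h1.trans hBV)).op) (counit_app_pullSect f P V σ)).trans ?_
    rw [← mres_mres P hBV h1, hσ, Scheme.Modules.map_smul, tm_res, spow_res, mres_mres]
  let b' := (B (d j)).presheaf.map (homOfLE (inf_le_right : B'' ≤ B₁)).op b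
  have hu := (hc.map (X.presheaf.map (homOfLE h1).op).hom).mul
    (isUnit_app_tm (ψ (d j)) (isGen_spow (he.res h1) (d j)) (hb.res (inf_le_right : B'' ≤ B₁)))
  obtain ⟨r, hr⟩ := hu.exists_left_inv
  have key := untwist_tm f F B ψ (d j) _ _ b' z _ hz
  refine ⟨B'', h1.trans hB', ⟨hxB, hxB₁⟩,
    (Sigma.ι (fun j => CohB1.tensorMod ((Scheme.Modules.pullback f).obj ((Scheme.Modules.pushforward f).obj
      (CohB1.tensorMod F (CohB1.tensorPow L (d j))))) (B (d j))) j).app B'' (r • tm z b'), ?_⟩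
  refine (congr(($(Sigma.ι_desc (f := fun j => CohB1.tensorMod ((Scheme.Modules.pullback f).obj
    ((Scheme.Modules.pushforward f).obj (CohB1.tensorMod F (CohB1.tensorPow L (d j))))) (B (d j)))
    (fun j => untwist f F B ψ (d j)) j)).app B'' (r • tm z b'))).trans ?_
  rw [Scheme.Modules.Hom.app_smul, key, smul_smul]
  exact (congrArg (fun t => t • _) hr).trans (one_smul _ _)

end Groth.Agent.H10Coh.Untwist
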